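import Cfsg.Agent.H190.Chev
import Mathlib
set_option linter.all false

-- part: H190/Index
section
/-!
# Field extensions and the index of the torus
-/

set_option autoImplicit false

namespace Cfsg.Agent.H190

open Cfsg.Lie Cfsg.Agent.ChevalleyStructure.Elts

universe u

/-- A finite field of characteristic `p` has a finite extension with `m ∣ q - 1`, if `p ∤ m`. -/
theorem exists_field_ext (F : Type u) [Field F] [Finite F] (p : ℕ) [hp : Fact p.Prime] [CharP F p] {m : ℕ}
    (hm : ¬ p ∣ m) :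
    ∃ (K : Type u) (_ : Field K) (_ : Fintype K) (_ : F →+* K), m ∣ Fintype.card K - 1 := by
  have hm0 : m ≠ 0 := by rintro rfl; exact hm (dvd_zero p)
  have hmF : (m : F) ≠ 0 := by
    intro h
    exact hm ((CharP.cast_eq_zero_iff F p m).1 h)
  haveI : NeZero (m : F) := ⟨hmF⟩
  haveI : NeZero m := ⟨hm0⟩
  let K := CyclotomicField m F
  haveI : FiniteDimensional F K := IsCyclotomicExtension.finiteDimensional {m} F K
  haveI : Finite K := Module.finite_of_finite F
  letI : Fintype K := Fintype.ofFinite K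
  refine ⟨K, inferInstance, inferInstance, algebraMap F K, ?_⟩
  have hz := IsCyclotomicExtension.zeta_spec m F K
  have h1 : (IsCyclotomicExtension.zeta m F K) ^ (Fintype.card K - 1) = 1 :=
    FiniteField.pow_card_sub_one_eq_one _ (hz.ne_zero hm0)
  exact hz.dvd_of_pow_eq_one _ h1

/-- the index of the torus from the order formulas -/
theorem index_eq {D : ChevalleyDatum} (hD : InList D) {F : Type u} [Field F] [Fintype F] {d N : ℕ} (ds : List ℕ)
    (hd : d ≠ 0) (hG : d * Nat.card ↥(D.group F) = Fintype.card F ^ N * (ds.map fun k => Fintype.card F ^ k - 1).prod)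
    (hT : d * Nat.card ↥(D.diagonalSubgroup F) = (Fintype.card F - 1) ^ ds.length) :
    (TG D F).index = Fintype.card F ^ N * (ds.map fun k => ∑ j ∈ Finset.range k, Fintype.card F ^ j).prod := by
  set q := Fintype.card F with hq
  have hq1 : 1 < q := Fintype.one_lt_card
  have hTc : Nat.card ↥(TG D F) = Nat.card ↥(D.diagonalSubgroup F) := by
    exact Nat.card_congr (Subgroup.subgroupOfEquivOfLe (diagonal_le_group hD F)).toEquiv
  have h1 := Subgroup.card_mul_index (TG D F)
  rw [hTc] at h1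
  have h2 : ∀ l : List ℕ, (l.map fun k => q ^ k - 1).prod =
      (q - 1) ^ l.length * (l.map fun k => ∑ j ∈ Finset.range k, q ^ j).prod := by
    intro l
    induction l with
    | nil => simp
    | cons a l ih =>
      rw [List.map_cons, List.prod_cons, ih, List.map_cons, List.prod_cons, List.length_cons, pow_succ]
      have : q ^ a - 1 = (q - 1) * ∑ j ∈ Finset.range a, q ^ j := by
        rw [mul_comm, Nat.geomSum_eq hq1, Nat.div_mul_cancel]
        exact Nat.sub_one_dvd_pow_sub_one _ _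
      rw [this]
      ring
  have h3 : d * (Nat.card ↥(D.diagonalSubgroup F) * (TG D F).index) =
      d * Nat.card ↥(D.diagonalSubgroup F) * (q ^ N * (ds.map fun k => ∑ j ∈ Finset.range k, q ^ j).prod) := by
    rw [h1, hG, h2, hT]
    ring
  have hpos : 0 < d * Nat.card ↥(D.diagonalSubgroup F) := by
    rw [hT]
    exact pow_pos (by omega) _
  rw [← mul_assoc] at h3
  exact Nat.eq_of_mul_eq_mul_left hpos h3

/-- the index of the torus is prime to `ℓ` if `ℓ ∣ q - 1` divides no degree -/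
theorem not_dvd_index {D : ChevalleyDatum} (hD : InList D) {F : Type u} [Field F] [Fintype F] {d N : ℕ} (ds : List ℕ)
    (hd : d ≠ 0) (hG : d * Nat.card ↥(D.group F) = Fintype.card F ^ N * (ds.map fun k => Fintype.card F ^ k - 1).prod)
    (hT : d * Nat.card ↥(D.diagonalSubgroup F) = (Fintype.card F - 1) ^ ds.length)
    {ℓ : ℕ} (hl : ℓ.Prime) (hq : ℓ ∣ Fintype.card F - 1) (hds : ∀ k ∈ ds, ¬ ℓ ∣ k) : ¬ ℓ ∣ (TG D F).index := by
  rw [index_eq hD ds hd hG hT]
  have hq1 : 1 < Fintype.card F := Fintype.one_lt_card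
  have hmod : Fintype.card F ≡ 1 [MOD ℓ] := by
    rw [Nat.ModEq.comm, Nat.modEq_iff_dvd' hq1.le]
    exact hq
  intro h
  rcases (Nat.Prime.dvd_mul hl).1 h with h1 | h1
  · have h2 := hl.dvd_of_dvd_pow h1
    have h3 := (Nat.modEq_zero_iff_dvd.2 h2).symm.trans hmod
    have h4 : ℓ ∣ 1 := Nat.modEq_zero_iff_dvd.1 h3.symm
    exact hl.one_lt.ne' (Nat.dvd_one.1 h4)
  · rw [Prime.dvd_prod_iff hl.prime] at h1
    obtain ⟨a, ha, hla⟩ := h1
    obtain ⟨k, hk, rfl⟩ := List.mem_map.1 ha
    apply hds k hk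
    rw [← Nat.modEq_zero_iff_dvd] at hla ⊢
    refine Nat.ModEq.trans ?_ hla
    have : ∑ j ∈ Finset.range k, Fintype.card F ^ j ≡ ∑ j ∈ Finset.range k, 1 [MOD ℓ] := by
      apply Nat.ModEq.sum
      intro j _
      have := hmod.pow j
      rwa [one_pow] at this
    rw [Finset.sum_const, Finset.card_range, smul_eq_mul, mul_one] at this
    exact this.symm

end Cfsg.Agent.H190
end

-- part: H190/PermCert
section
/-!
# Permutation groups given by packed tables: enumeration by transversals, checked by the kernel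
-/

set_option autoImplicit false

namespace Cfsg.Agent.H190.PC

open Equiv

/-- entry `x` of the packed table `c` -/
def get (c x : ℕ) : ℕ := Nat.land (Nat.shiftRight c (Nat.mul 8 x)) 255

/-- pack `f 0, …, f (n - 1)` -/
def pack (f : ℕ → ℕ) : ℕ → ℕ
  | 0 => 0
  | n + 1 => Nat.add (pack f n) (Nat.shiftLeft (f n) (Nat.mul 8 n))

/-- composition of tables: first `d`, then `c` -/
def mul (n c d : ℕ) : ℕ := pack (fun x => get c (get d x)) n

theorem get_eq (c x : ℕ) : get c x = c / 256 ^ x % 256 := by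
  show (c >>> (8 * x)) &&& 255 = _
  rw [show (255 : ℕ) = 2 ^ 8 - 1 from rfl, Nat.and_two_pow_sub_one_eq_mod, Nat.shiftRight_eq_div_pow, pow_mul]
  norm_num

theorem get_lt (c x : ℕ) : get c x < 256 := by
  rw [get_eq]; exact Nat.mod_lt _ (by norm_num)

theorem pack_succ (f : ℕ → ℕ) (n : ℕ) : pack f (n + 1) = pack f n + f n * 256 ^ n := by
  show pack f n + (f n) <<< (8 * n) = _
  rw [Nat.shiftLeft_eq, pow_mul]
  norm_num

theorem pack_lt (f : ℕ → ℕ) (hf : ∀ x, f x < 256) (n : ℕ) : pack f n < 256 ^ n := by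
  induction n with
  | zero => exact Nat.one_pos
  | succ n ih =>
    rw [pack_succ, pow_succ]
    have := hf n
    nlinarith [pow_pos (show 0 < 256 by norm_num) n]

theorem get_pack (f : ℕ → ℕ) (hf : ∀ x, f x < 256) (n : ℕ) {x : ℕ} (hx : x < n) : get (pack f n) x = f x := by
  induction n with
  | zero => exact absurd hx (Nat.not_lt_zero _)
  | succ n ih =>
    rw [get_eq, pack_succ]
    have hpos : 0 < 256 ^ x := pow_pos (by norm_num) x
    rcases Nat.lt_succ_iff_lt_or_eq.1 hx with h | h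
    · have e : f n * 256 ^ n = 256 ^ x * (256 * (f n * 256 ^ (n - x - 1))) := by
        have h1 : 256 ^ n = 256 ^ x * 256 * 256 ^ (n - x - 1) := by
          rw [← pow_succ, ← pow_add]
          congr 1
          omega
        rw [h1]
        ring
      rw [e, Nat.add_mul_div_left _ _ hpos, Nat.add_mul_mod_self_left, ← get_eq]
      exact ih h
    · subst h
      rw [Nat.add_mul_div_right _ _ hpos, Nat.div_eq_of_lt (pack_lt f hf x), zero_add]
      exact Nat.mod_eq_of_lt (hf x)

variable {n : ℕ}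

/-- the table `c` describes the permutation `w` -/
def Codes (c : ℕ) (w : Perm (Fin n)) : Prop := ∀ x : Fin n, get c x = w x

theorem Codes.unique {c : ℕ} {v w : Perm (Fin n)} (h : Codes c v) (h' : Codes c w) : v = w := by
  apply Equiv.ext
  intro x
  apply Fin.ext
  rw [← h x, ← h' x]

theorem Codes.mul {c d : ℕ} {v w : Perm (Fin n)} (h : Codes c v) (h' : Codes d w) : Codes (mul n c d) (v * w) := by
  intro x
  unfold PC.mul
  rw [get_pack _ (fun x => get_lt _ _) n x.2, h' x, h (w x)]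
  rfl

/-- the code of the identity -/
def one (n : ℕ) : ℕ := pack (fun x => Nat.mod x 256) n

theorem codes_one (hn : n ≤ 256) : Codes (one n) (1 : Perm (Fin n)) := by
  intro x
  unfold one
  rw [get_pack (fun x => Nat.mod x 256) (fun x => Nat.mod_lt _ (by norm_num)) n x.2]
  exact Nat.mod_eq_of_lt (x.2.trans_le hn)

/-- the permutations with codes in a list -/
def PS (n : ℕ) (X : List ℕ) : Set (Perm (Fin n)) := {w | ∃ c ∈ X, Codes c w}

/-- one level of the chain -/
def level (n : ℕ) (S S0 X : List ℕ) : Bool :=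
  X.any (fun x => Nat.beq x (one n)) && S.all (fun s => Nat.beq (mul n s s) (one n) &&
    X.all (fun x => X.any (fun y => Nat.beq (mul n s x) y) || S0.any (fun t => Nat.beq (mul n s x) (mul n x t))))

theorem level_spec {S S0 X : List ℕ} (hn : n ≤ 256) (hS0 : ∀ c ∈ S0, ∃ w : Perm (Fin n), Codes c w)
    (h : level n S S0 X = true) (w : Perm (Fin n))
    (hw : w ∈ Subgroup.closure (PS n S)) :
    ∃ u ∈ PS n X, ∃ v ∈ Subgroup.closure (PS n S0), w = u * v := by
  unfold level at h
  simp only [Bool.and_eq_true, List.any_eq_true, List.all_eq_true, Bool.or_eq_true] at h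
  obtain ⟨⟨x0, hx0, h1⟩, h2⟩ := h
  have h1' := Nat.eq_of_beq_eq_true h1
  have step : ∀ s ∈ PS n S, ∀ y : Perm (Fin n), (∃ u ∈ PS n X, ∃ v ∈ Subgroup.closure (PS n S0), y = u * v) →
      ∃ u ∈ PS n X, ∃ v ∈ Subgroup.closure (PS n S0), s * y = u * v := by
    rintro s ⟨c, hc, hcs⟩ _ ⟨u, ⟨x, hx, hxu⟩, v, hv, rfl⟩
    rcases (h2 c hc).2 x hx with ⟨y, hy, hye⟩ | ⟨t, ht, hte⟩
    · have e := Nat.eq_of_beq_eq_true hye
      exact ⟨s * u, ⟨y, hy, e ▸ hcs.mul hxu⟩, v, hv, (mul_assoc _ _ _).symm⟩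
    · have e := Nat.eq_of_beq_eq_true hte
      obtain ⟨t', ht'⟩ := hS0 t ht
      have h3 : s * u = u * t' := (hcs.mul hxu).unique (e ▸ hxu.mul ht')
      refine ⟨u, ⟨x, hx, hxu⟩, t' * v, Subgroup.mul_mem _ (Subgroup.subset_closure ⟨t, ht, ht'⟩) hv, ?_⟩
      rw [← mul_assoc, h3, mul_assoc]
  induction hw using Subgroup.closure_induction_left with
  | one => exact ⟨1, ⟨x0, hx0, h1' ▸ codes_one hn⟩, 1, Subgroup.one_mem _, (mul_one 1).symm⟩
  | mul_left s hs y _ ih => exact step s hs y ih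
  | inv_mul_cancel s hs y _ ih =>
    obtain ⟨c, hc, hcs⟩ := hs
    have h4 := Nat.eq_of_beq_eq_true (h2 c hc).1
    have h5 : s * s = 1 := (hcs.mul hcs).unique (h4 ▸ codes_one hn)
    have h6 : s⁻¹ = s := inv_eq_of_mul_eq_one_left h5
    rw [h6]
    exact step s ⟨c, hc, hcs⟩ y ih

/-- check `P` on all products -/
def allProd (n : ℕ) (P : ℕ → Bool) : List (List ℕ) → ℕ → Bool
  | [], a => P a
  | X :: rest, a => X.all (fun x => allProd n P rest (mul n a x))

/-- the products of elements of the lists -/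
def Prods (n : ℕ) : List (List ℕ) → Set (Perm (Fin n))
  | [] => {1}
  | X :: rest => {w | ∃ u ∈ PS n X, ∃ v ∈ Prods n rest, w = u * v}

theorem allProd_spec (P : ℕ → Bool) (Xs : List (List ℕ)) (a : ℕ) (u : Perm (Fin n)) (hu : Codes a u)
    (h : allProd n P Xs a = true) : ∀ w ∈ Prods n Xs, ∃ c, Codes c (u * w) ∧ P c = true := by
  induction Xs generalizing a u with
  | nil =>
    rintro _ rfl
    exact ⟨a, by rwa [mul_one], h⟩
  | cons X rest ih =>
    rintro _ ⟨x, ⟨c, hc, hcx⟩, v, hv, rfl⟩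
    rw [allProd, List.all_eq_true] at h
    obtain ⟨d, hd, hP⟩ := ih _ _ (hu.mul hcx) (h c hc) v hv
    exact ⟨d, by rwa [← mul_assoc], hP⟩

/-- a chain of levels -/
def chain (n : ℕ) : List ℕ → List (List ℕ × List ℕ) → Bool
  | S, [] => S.isEmpty
  | S, (S0, X) :: rest => level n S S0 X && chain n S0 rest

theorem chain_spec (hn : n ≤ 256) (L : List (List ℕ × List ℕ)) (S : List ℕ)
    (hL : ∀ p ∈ L, ∀ c ∈ p.1, ∃ w : Perm (Fin n), Codes c w)
    (h : chain n S L = true) (w : Perm (Fin n)) (hw : w ∈ Subgroup.closure (PS n S)) :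
    w ∈ Prods n (L.map Prod.snd) := by
  induction L generalizing S w with
  | nil =>
    rw [chain, List.isEmpty_iff] at h
    subst h
    have : PS n [] = ∅ := by ext; simp [PS]
    rw [this, Subgroup.closure_empty, Subgroup.mem_bot] at hw
    exact hw
  | cons p rest ih =>
    obtain ⟨S0, X⟩ := p
    rw [chain, Bool.and_eq_true] at h
    obtain ⟨u, hu, v, hv, rfl⟩ := level_spec hn (hL _ List.mem_cons_self) h.1 w hw
    exact ⟨u, hu, v, ih S0 (fun q hq => hL q (List.mem_cons_of_mem _ hq)) h.2 v hv, rfl⟩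

/-- all `x < n` -/
def allB (q : ℕ → Bool) : ℕ → Bool
  | 0 => true
  | n + 1 => q n && allB q n

theorem allB_spec {q : ℕ → Bool} {m : ℕ} (h : allB q m = true) : ∀ x < m, q x = true := by
  induction m with
  | zero => intro x hx; exact absurd hx (Nat.not_lt_zero _)
  | succ m ih =>
    rw [allB, Bool.and_eq_true] at h
    intro x hx
    rcases Nat.lt_succ_iff_lt_or_eq.1 hx with h1 | rfl
    · exact ih h.2 x h1
    · exact h.1

/-- iterate the table -/
def it (c : ℕ) : ℕ → ℕ → ℕ
  | 0, x => x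
  | k + 1, x => it c k (get c x)

theorem it_spec {c : ℕ} {w : Perm (Fin n)} (h : Codes c w) (k : ℕ) (x : Fin n) : it c k x = ((w ^ k) x : Fin n) := by
  induction k generalizing x with
  | zero => rfl
  | succ k ih =>
    rw [it, h x, ih, pow_succ]
    rfl

/-- `w ^ k = 1` -/
def powOne (n c k : ℕ) : Bool := allB (fun x => Nat.beq (it c k x) x) n

theorem powOne_spec {c k : ℕ} {w : Perm (Fin n)} (h : Codes c w) (hp : powOne n c k = true) : w ^ k = 1 := by
  apply Equiv.ext
  intro x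
  apply Fin.ext
  rw [← it_spec h]
  exact Nat.eq_of_beq_eq_true (allB_spec hp x x.2)

/-- `w ^ k = - 1`, for roots numbered with `- x = n - 1 - x` -/
def powNeg (n c k : ℕ) : Bool := allB (fun x => Nat.beq (it c k x) (Nat.sub (Nat.sub n 1) x)) n

theorem powNeg_spec {c k : ℕ} {w : Perm (Fin n)} (h : Codes c w) (hp : powNeg n c k = true) (x : Fin n) :
    (((w ^ k) x : Fin n) : ℕ) = n - 1 - x := by
  rw [← it_spec h]
  exact Nat.eq_of_beq_eq_true (allB_spec hp x x.2)

end Cfsg.Agent.H190.PC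
end

-- part: H190/Act
section
/-!
# The action of elements of `N` on the torus through the permutation of the roots
-/

set_option autoImplicit false

namespace Cfsg.Agent.H190

open Cfsg.Lie Cfsg.Agent.ChevalleyStructure Cfsg.Agent.ChevalleyStructure.Elts
  Cfsg.Agent.ChevalleyStructure.NPerm Cfsg.Agent.H190.PC

universe u

variable {F : Type u} [Field F] {D : ChevalleyDatum}

/-- the permutation of the roots given by an element of `N` -/
noncomputable def pw (hD : InList D) {n : ↥(D.group F)} (hn : n ∈ NG D F) : Equiv.Perm (Fin D.nroots) :=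
  permHom hD F ⟨n, hn⟩

theorem pow_mem_NG {n : ↥(D.group F)} (hn : n ∈ NG D F) (m : ℕ) : n ^ m ∈ NG D F := Subgroup.pow_mem _ hn m

theorem pw_pow (hD : InList D) {n : ↥(D.group F)} (hn : n ∈ NG D F) (m : ℕ) :
    pw hD (pow_mem_NG hn m) = pw hD hn ^ m := by
  unfold pw
  rw [← map_pow]
  rfl

theorem conj_mem_TG (hD : InList D) {n t : ↥(D.group F)} (hn : n ∈ NG D F) (ht : t ∈ TG D F) :
    n * t * n⁻¹ ∈ TG D F := (torusData hD F).normal n hn t ht

theorem ent_conj' (hD : InList D) {n t : ↥(D.group F)} (hn : n ∈ NG D F) (ht : t ∈ TG D F) (r : Fin D.nroots) :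
    ent ((n * t * n⁻¹ : ↥(D.group F)) : GL D.Idx F) (pw hD hn r) = ent (t : GL D.Idx F) r := by
  have ht0 : (t : GL D.Idx F) ∈ D.diagonalSubgroup F := ht
  rw [Subgroup.coe_mul, Subgroup.coe_mul, Subgroup.coe_inv]
  exact ent_conj hD (⟨(n : GL D.Idx F), hn⟩ : ↥(D.monomialSubgroup F)) ht0 r

/-- if `w ^ m = 1` then `n ^ m` centralises the torus -/
theorem conj_pow_eq (hD : InList D) {n : ↥(D.group F)} (hn : n ∈ NG D F) {m : ℕ} (h : pw hD hn ^ m = 1) :
    ∀ t ∈ TG D F, n ^ m * t * (n ^ m)⁻¹ = t := by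
  intro t ht
  have ht0 : (t : GL D.Idx F) ∈ D.diagonalSubgroup F := ht
  have h1 : ((n ^ m * t * (n ^ m)⁻¹ : ↥(D.group F)) : GL D.Idx F) ∈ D.diagonalSubgroup F :=
    conj_mem_TG hD (pow_mem_NG hn m) ht
  apply Subtype.ext
  refine torus_ext hD h1 ht0 fun r => ?_
  have h2 := ent_conj' hD (pow_mem_NG hn m) ht r
  rw [pw_pow hD hn, h] at h2
  exact h2

/-- if `w ^ m = - 1` then `n ^ m` inverts the torus -/
theorem conj_pow_neg (hD : InList D) {n : ↥(D.group F)} (hn : n ∈ NG D F) {m : ℕ}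
    (h : ∀ x : Fin D.nroots, (((pw hD hn ^ m) x : Fin D.nroots) : ℕ) = D.nroots - 1 - x) :
    ∀ t ∈ TG D F, n ^ m * t * (n ^ m)⁻¹ = t⁻¹ := by
  intro t ht
  have G := RootComb.good_of_mem hD
  have ht0 : (t : GL D.Idx F) ∈ D.diagonalSubgroup F := ht
  have h1 : ((n ^ m * t * (n ^ m)⁻¹ : ↥(D.group F)) : GL D.Idx F) ∈ D.diagonalSubgroup F :=
    conj_mem_TG hD (pow_mem_NG hn m) ht
  have ht' : ((t⁻¹ : ↥(D.group F)) : GL D.Idx F) ∈ D.diagonalSubgroup F := (D.diagonalSubgroup F).inv_mem ht0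
  have hneg : ∀ r : Fin D.nroots, ent ((t⁻¹ : ↥(D.group F)) : GL D.Idx F) ((pw hD hn ^ m) r) = ent (t : GL D.Idx F) r := by
    intro r
    have h3 : ∀ i < D.rank, D.cartan i ((pw hD hn ^ m) r : Fin D.nroots) = - D.cartan i r := by
      intro i hi
      rw [h r, ← G.neg_eq r.2, G.cartan_neg hi r.2]
    have h4 := ent_neg hD ht0 h3
    have h5 := ent_mul hD ht' ht0 ((pw hD hn ^ m) r)
    have h6 : ((t⁻¹ : ↥(D.group F)) : GL D.Idx F) * (t : GL D.Idx F) = 1 := inv_mul_cancel _
    rw [h6] at h5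
    have h7 : ent (1 : GL D.Idx F) ((pw hD hn ^ m) r) = 1 := by
      unfold ent
      rw [Units.val_one, Matrix.one_apply_eq]
    rw [h7] at h5
    have hne := ent_ne_zero hD ht0 ((pw hD hn ^ m) r)
    have h8 : ent ((t⁻¹ : ↥(D.group F)) : GL D.Idx F) ((pw hD hn ^ m) r) * ent (t : GL D.Idx F) ((pw hD hn ^ m) r) =
        ent (t : GL D.Idx F) r * ent (t : GL D.Idx F) ((pw hD hn ^ m) r) := by
      rw [← h5, mul_comm (ent (t : GL D.Idx F) r), h4]
    exact mul_right_cancel₀ hne h8
  apply Subtype.ext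
  refine torus_ext hD h1 ht' fun s => ?_
  obtain ⟨r, rfl⟩ := (pw hD hn ^ m).surjective s
  rw [hneg r, ← pw_pow hD hn]
  exact ent_conj' hD (pow_mem_NG hn m) ht r

/-- the permutations of the roots given by `N` lie in the group generated by the simple reflections -/
theorem pw_mem (hD : InList D) {n : ↥(D.group F)} (hn : n ∈ NG D F) (gens : List ℕ)
    (hg : ∀ i < D.rank, ∃ c ∈ gens, ∀ x < D.nroots, get c x = D.reflectRoot i x) :
    pw hD hn ∈ Subgroup.closure (PS D.nroots gens) := by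
  have h1 : pw hD hn ∈ (permHom hD F).range := ⟨_, rfl⟩
  rw [range_permHom hD F] at h1
  refine Subgroup.closure_mono ?_ h1
  rintro _ ⟨i, rfl⟩
  obtain ⟨c, hc, h⟩ := hg i i.2
  refine ⟨c, hc, fun x => ?_⟩
  rw [permHom_nG hD i.2 _ (coe_nG hD _ _) x]
  exact h x x.2

end Cfsg.Agent.H190
end
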