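import Cfsg.Agent.H190.Frattini
import Cfsg.Agent.ChevalleyStructure.NPerm
import Cfsg.Agent.ChevalleyStructure.HDiag
import Cfsg.Agent.ChevStructure.FieldMap
import Cfsg.Agent.S1046
set_option linter.all false

-- part: H190/Section
section
/-!
# Normalisers of cyclic groups in sections, seen in the torus

`Acts T n ℓ k`: some subgroup `S ≤ T` is normalised by `n` and has a quotient of order `ℓ` on which `n` acts as
`x ↦ x ^ k`. Under `TorusData T N` and `ℓ ∤ |X : T|`, a section of `X` with `y x y⁻¹ = x ^ k`, `|x| = ℓ`, gives `n ∈ N`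
with `Acts T n ℓ k` (`one_prime`), and similarly for two primes at once (`two_primes`).
-/

set_option autoImplicit false

namespace Cfsg.Agent.H190

variable {X : Type*} [Group X]

/-- `n` normalises some `S ≤ T` and acts as `x ↦ x ^ k` on a quotient of order `ℓ` of `S`. -/
def Acts (T : Subgroup X) (n : X) (ℓ k : ℕ) : Prop :=
  ∃ S : Subgroup X, S ≤ T ∧ ∃ ψ : X → ZMod ℓ, (∀ s ∈ S, ∀ t ∈ S, ψ (s * t) = ψ s + ψ t) ∧
    (∃ s ∈ S, ψ s = 1) ∧ ∀ s ∈ S, n * s * n⁻¹ ∈ S ∧ ψ (n * s * n⁻¹) = k * ψ s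

theorem acts_of {H A : Type*} [Group H] [Group A] {T : Subgroup X} {n : X} {ℓ k : ℕ}
    (ι : H →* X) (hι : Function.Injective ι) (φ : H →* A) {x y : A} (hx : orderOf x = ℓ)
    (hy : y * x * y⁻¹ = x ^ k) (S : Subgroup H) (hS : S.map φ = Subgroup.zpowers x)
    (hT : ∀ s ∈ S, ι s ∈ T) (h : H) (hh : φ h = y) (hhS : ∀ s ∈ S, h * s * h⁻¹ ∈ S)
    (hn : ∀ s ∈ S, n * ι s * n⁻¹ = ι (h * s * h⁻¹)) : Acts T n ℓ k := by
  classical
  refine ⟨S.map ι, ?_, fun g => if hg : g ∈ ι.range then dlog x ℓ (φ (Classical.choose hg)) else 0, ?_, ?_, ?_⟩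
  · rintro _ ⟨s, hs, rfl⟩
    exact hT s hs
  all_goals
    have key : ∀ s : H, (if hg : ι s ∈ ι.range then dlog x ℓ (φ (Classical.choose hg)) else 0) = dlog x ℓ (φ s) := by
      intro s
      have hg : ι s ∈ ι.range := ⟨s, rfl⟩
      rw [dif_pos hg]
      rw [hι (Classical.choose_spec hg)]
    have hmem : ∀ s ∈ S, φ s ∈ Subgroup.zpowers x := fun s hs => hS ▸ ⟨s, hs, rfl⟩
  · rintro _ ⟨s, hs, rfl⟩ _ ⟨t, ht, rfl⟩
    simp only [← map_mul]
    rw [key, key, key, map_mul, dlog_mul hx (hmem s hs) (hmem t ht)]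
  · have h1 : x ∈ S.map φ := hS ▸ Subgroup.mem_zpowers x
    obtain ⟨s, hs, hsx⟩ := h1
    refine ⟨ι s, ⟨s, hs, rfl⟩, ?_⟩
    simp only []
    rw [key, hsx]
    have := dlog_zpow hx 1
    rw [zpow_one] at this
    rw [this, Int.cast_one]
  · rintro _ ⟨s, hs, rfl⟩
    refine ⟨?_, ?_⟩
    · rw [hn s hs]
      exact ⟨_, hhS s hs, rfl⟩
    · simp only [hn s hs]
      rw [key, key, map_mul, map_mul, map_inv, hh, dlog_conj hx hy (hmem s hs)]

theorem Acts.iter {n : X} {ℓ k : ℕ} (S : Subgroup X) (ψ : X → ZMod ℓ)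
    (h : ∀ s ∈ S, n * s * n⁻¹ ∈ S ∧ ψ (n * s * n⁻¹) = k * ψ s) (m : ℕ) :
    ∀ s ∈ S, n ^ m * s * (n ^ m)⁻¹ ∈ S ∧ ψ (n ^ m * s * (n ^ m)⁻¹) = (k : ZMod ℓ) ^ m * ψ s := by
  induction m with
  | zero => intro s hs; simpa using hs
  | succ m ih =>
    intro s hs
    obtain ⟨h1, h2⟩ := ih s hs
    obtain ⟨h3, h4⟩ := h _ h1
    have e : n ^ (m + 1) * s * (n ^ (m + 1))⁻¹ = n * (n ^ m * s * (n ^ m)⁻¹) * n⁻¹ := by
      rw [pow_succ']; group
    rw [e]
    refine ⟨h3, ?_⟩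
    rw [h4, h2, pow_succ']
    ring

/-- a `ψ` as in `Acts` kills `1`. -/
theorem psi_one {ℓ : ℕ} (S : Subgroup X) (ψ : X → ZMod ℓ) (h : ∀ s ∈ S, ∀ t ∈ S, ψ (s * t) = ψ s + ψ t) :
    ψ 1 = 0 := by
  have := h 1 S.one_mem 1 S.one_mem
  rw [mul_one] at this
  simpa using this

theorem psi_inv {ℓ : ℕ} (S : Subgroup X) (ψ : X → ZMod ℓ) (h : ∀ s ∈ S, ∀ t ∈ S, ψ (s * t) = ψ s + ψ t)
    {s : X} (hs : s ∈ S) : ψ s⁻¹ = - ψ s := by
  have := h s hs s⁻¹ (S.inv_mem hs)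
  rw [mul_inv_cancel, psi_one S ψ h] at this
  exact (neg_eq_of_add_eq_zero_right this.symm).symm

/-- if `n ^ m` centralises `T` then `k ^ m = 1`. -/
theorem Acts.pow_eq_one {T : Subgroup X} {n : X} {ℓ k : ℕ} (h : Acts T n ℓ k) {m : ℕ}
    (hm : ∀ t ∈ T, n ^ m * t * (n ^ m)⁻¹ = t) : (k : ZMod ℓ) ^ m = 1 := by
  obtain ⟨S, hST, ψ, hadd, ⟨s, hs, hs1⟩, hn⟩ := h
  have h1 := (Acts.iter S ψ hn m s hs).2
  rw [hm s (hST hs), hs1, mul_one] at h1
  exact h1.symm

/-- if `n ^ m` inverts `T` then `k ^ m = - 1`. -/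
theorem Acts.pow_eq_neg_one {T : Subgroup X} {n : X} {ℓ k : ℕ} (h : Acts T n ℓ k) {m : ℕ}
    (hm : ∀ t ∈ T, n ^ m * t * (n ^ m)⁻¹ = t⁻¹) : (k : ZMod ℓ) ^ m = -1 := by
  obtain ⟨S, hST, ψ, hadd, ⟨s, hs, hs1⟩, hn⟩ := h
  have h1 := (Acts.iter S ψ hn m s hs).2
  rw [hm s (hST hs), psi_inv S ψ hadd hs, hs1, mul_one] at h1
  exact h1.symm

/-- a relation `n^a t · n^b t = n^c t · n^d t` on `T` gives `k^a + k^b = k^c + k^d`. -/
theorem Acts.rel {T : Subgroup X} {n : X} {ℓ k : ℕ} (h : Acts T n ℓ k) {a b c d : ℕ}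
    (hm : ∀ t ∈ T, (n ^ a * t * (n ^ a)⁻¹) * (n ^ b * t * (n ^ b)⁻¹) =
      (n ^ c * t * (n ^ c)⁻¹) * (n ^ d * t * (n ^ d)⁻¹)) :
    (k : ZMod ℓ) ^ a + (k : ZMod ℓ) ^ b = (k : ZMod ℓ) ^ c + (k : ZMod ℓ) ^ d := by
  obtain ⟨S, hST, ψ, hadd, ⟨s, hs, hs1⟩, hn⟩ := h
  have key := Acts.iter S ψ hn
  have h1 := congrArg ψ (hm s (hST hs))
  rw [hadd _ (key a s hs).1 _ (key b s hs).1, hadd _ (key c s hs).1 _ (key d s hs).1,
    (key a s hs).2, (key b s hs).2, (key c s hs).2, (key d s hs).2, hs1] at h1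
  simpa using h1

section

variable [Finite X] {T N : Subgroup X}

/-- **One prime.** -/
theorem one_prime (D : TorusData T N) {ℓ : ℕ} [hl : Fact ℓ.Prime] (hT : ¬ ℓ ∣ T.index)
    {H A : Type*} [Group H] [Group A] (ι : H →* X) (hι : Function.Injective ι) (φ : H →* A)
    (hφ : Function.Surjective φ) {x y : A} {k : ℕ} (hx : orderOf x = ℓ) (hy : y * x * y⁻¹ = x ^ k) :
    ∃ n ∈ N, Acts T n ℓ k := by
  have hfH : Finite H := Finite.of_injective ι hι
  have hQ : IsPGroup ℓ (Subgroup.zpowers x) := IsPGroup.of_card (n := 1) (by rw [Nat.card_zpowers, hx, pow_one])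
  obtain ⟨S, hSp, hSm, hSn⟩ := frattini_section φ hφ ℓ (Subgroup.zpowers x) hQ
  obtain ⟨h, hh, hhS⟩ := hSn y (fun q => normalizes_zpowers hx hy q)
  obtain ⟨g, hg⟩ := exists_conj_le T hT (S.map ι) (hSp.map ι)
  let ι' : H →* X := (MulAut.conj g).toMonoidHom.comp ι
  have hι' : ∀ s, ι' s = g * ι s * g⁻¹ := fun s => rfl
  have hinj : Function.Injective ι' := (MulAut.conj g).injective.comp hι
  have hT' : ∀ s ∈ S, ι' s ∈ T := fun s hs => hg _ ⟨s, hs, rfl⟩
  obtain ⟨n, hn, hns⟩ := D.fus (ι' h) (S.map ι') (by rintro _ ⟨s, hs, rfl⟩; exact hT' s hs) (by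
    rintro _ ⟨s, hs, rfl⟩
    rw [← map_inv, ← map_mul, ← map_mul]
    exact hT' _ ((hhS s).1 hs))
  refine ⟨n, hn, acts_of ι' hinj φ hx hy S hSm hT' h hh (fun s hs => (hhS s).1 hs) ?_⟩
  intro s hs
  rw [hns _ ⟨s, hs, rfl⟩, map_mul, map_mul, map_inv]

omit [Finite X] in
/-- an element of `N` acts on `T` with order dividing `|N : T|`. -/
theorem TorusData.pow_centralizes (D : TorusData T N) {n : X} (hn : n ∈ N) {t : X} (ht : t ∈ T) :
    n ^ (T.relIndex N) * t * (n ^ (T.relIndex N))⁻¹ = t := by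
  have hnor : (T.subgroupOf N).Normal := by
    refine ⟨fun a ha b => ?_⟩
    exact D.normal b b.2 a ha
  have h1 : (⟨n, hn⟩ : N) ^ (T.subgroupOf N).index ∈ T.subgroupOf N := Subgroup.pow_index_mem _ _
  have h2 : n ^ (T.relIndex N) ∈ T := h1
  rw [D.comm _ h2 _ ht, mul_inv_cancel_right]

/-- **Two primes.** -/
theorem two_primes (D : TorusData T N) {ℓ₁ ℓ₂ : ℕ} [hl₁ : Fact ℓ₁.Prime] [hl₂ : Fact ℓ₂.Prime]
    (hT₁ : ¬ ℓ₁ ∣ T.index) (hT₂ : ¬ ℓ₂ ∣ T.index)
    {H A : Type*} [Group H] [Group A] (ι : H →* X) (hι : Function.Injective ι) (φ : H →* A)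
    (hφ : Function.Surjective φ) {x₁ x₂ y : A} {k₁ k₂ : ℕ} (hx₁ : orderOf x₁ = ℓ₁) (hx₂ : orderOf x₂ = ℓ₂)
    (hcomm : x₁ * x₂ = x₂ * x₁) (hy₁ : y * x₁ * y⁻¹ = x₁ ^ k₁) (hy₂ : y * x₂ * y⁻¹ = x₂ ^ k₂) :
    ∃ n ∈ N, Acts T n ℓ₁ k₁ ∧ Acts T n ℓ₂ k₂ := by
  classical
  have hfH : Finite H := Finite.of_injective ι hι
  have hQ : IsPGroup ℓ₁ (Subgroup.zpowers x₁) := IsPGroup.of_card (n := 1) (by rw [Nat.card_zpowers, hx₁, pow_one])
  obtain ⟨S₁, hS₁p, hS₁m, hS₁n⟩ := frattini_section φ hφ ℓ₁ (Subgroup.zpowers x₁) hQ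
  -- the normalisers
  let N₁ : Subgroup H :=
    { carrier := {h | ∀ s, s ∈ S₁ ↔ h * s * h⁻¹ ∈ S₁}
      one_mem' := fun s => by simp
      mul_mem' := by
        intro a b ha hb s
        have : a * b * s * (a * b)⁻¹ = a * (b * s * b⁻¹) * a⁻¹ := by group
        rw [this, ← ha, ← hb]
      inv_mem' := by
        intro a ha s
        rw [ha (a⁻¹ * s * a⁻¹⁻¹)]
        have : a * (a⁻¹ * s * a⁻¹⁻¹) * a⁻¹ = s := by group
        rw [this] }
  let NA : Subgroup A :=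
    { carrier := {a | ∀ q, q ∈ Subgroup.zpowers x₁ ↔ a * q * a⁻¹ ∈ Subgroup.zpowers x₁}
      one_mem' := fun s => by simp
      mul_mem' := by
        intro a b ha hb s
        have : a * b * s * (a * b)⁻¹ = a * (b * s * b⁻¹) * a⁻¹ := by group
        rw [this, ← ha, ← hb]
      inv_mem' := by
        intro a ha s
        rw [ha (a⁻¹ * s * a⁻¹⁻¹)]
        have : a * (a⁻¹ * s * a⁻¹⁻¹) * a⁻¹ = s := by group
        rw [this] }
  have hmemNA : ∀ h ∈ N₁, φ h ∈ NA := by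
    intro h hh q
    constructor
    · intro hq
      rw [← hS₁m] at hq ⊢
      obtain ⟨s, hs, rfl⟩ := hq
      exact ⟨h * s * h⁻¹, (hh s).1 hs, by rw [map_mul, map_mul, map_inv]⟩
    · intro hq
      rw [← hS₁m] at hq
      obtain ⟨s, hs, hse⟩ := hq
      have h1 : h⁻¹ * s * h ∈ S₁ := by
        rw [hh]
        have : h * (h⁻¹ * s * h) * h⁻¹ = s := by group
        rw [this]; exact hs
      rw [← hS₁m]
      refine ⟨h⁻¹ * s * h, h1, ?_⟩
      rw [map_mul, map_mul, map_inv, hse]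
      group
  let φ₁ : N₁ →* NA := (φ.comp N₁.subtype).codRestrict NA (fun h => hmemNA h h.2)
  have hφ₁ : Function.Surjective φ₁ := by
    rintro ⟨a, ha⟩
    obtain ⟨h, hh, hhS⟩ := hS₁n a ha
    exact ⟨⟨h, hhS⟩, Subtype.ext hh⟩
  have hx₂NA : x₂ ∈ NA := by
    refine fun q => normalizes_zpowers (k := 1) hx₁ ?_ q
    rw [pow_one, ← hcomm, mul_inv_cancel_right]
  have hyNA : y ∈ NA := fun q => normalizes_zpowers hx₁ hy₁ q
  have hx₂' : orderOf (⟨x₂, hx₂NA⟩ : NA) = ℓ₂ := by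
    rw [Subgroup.orderOf_mk]
    exact hx₂
  have hQ₂ : IsPGroup ℓ₂ (Subgroup.zpowers (⟨x₂, hx₂NA⟩ : NA)) :=
    IsPGroup.of_card (n := 1) (by rw [Nat.card_zpowers, hx₂', pow_one])
  obtain ⟨S₂, hS₂p, hS₂m, hS₂n⟩ := frattini_section φ₁ hφ₁ ℓ₂ _ hQ₂
  have hy₂' : (⟨y, hyNA⟩ : NA) * ⟨x₂, hx₂NA⟩ * (⟨y, hyNA⟩ : NA)⁻¹ = ⟨x₂, hx₂NA⟩ ^ k₂ := Subtype.ext hy₂
  obtain ⟨h, hh, hhS⟩ := hS₂n ⟨y, hyNA⟩ (fun q => normalizes_zpowers hx₂' hy₂' q)
  have hhy : φ (h : H) = y := congrArg Subtype.val hh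
  -- conjugate `S₁` into `T`
  obtain ⟨g, hg⟩ := exists_conj_le T hT₁ (S₁.map ι) (hS₁p.map ι)
  let ι₁ : H →* X := (MulAut.conj g).toMonoidHom.comp ι
  have hT' : ∀ s ∈ S₁, ι₁ s ∈ T := fun s hs => hg _ ⟨s, hs, rfl⟩
  -- the image of `S₂` centralises the image of `S₁`
  have hrel : T.relIndex N ∣ T.index := Subgroup.relIndex_dvd_index_of_le D.le
  have hcent : ∀ s₂ ∈ S₂, ∀ s₁ ∈ S₁, ι₁ (s₂ : H) * ι₁ s₁ * (ι₁ (s₂ : H))⁻¹ = ι₁ s₁ := by
    intro s₂ hs₂ s₁ hs₁
    obtain ⟨n₂, hn₂, hn₂s⟩ := D.fus (ι₁ s₂) (S₁.map ι₁) (by rintro _ ⟨s, hs, rfl⟩; exact hT' s hs) (by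
      rintro _ ⟨s, hs, rfl⟩
      rw [← map_inv, ← map_mul, ← map_mul]
      exact hT' _ ((s₂.2 s).1 hs))
    -- powers
    have hpow : ∀ m : ℕ, ∀ s ∈ S₁, n₂ ^ m * ι₁ s * (n₂ ^ m)⁻¹ = ι₁ ((s₂ : H) ^ m) * ι₁ s * (ι₁ ((s₂ : H) ^ m))⁻¹ := by
      intro m
      induction m with
      | zero => intro s _; simp
      | succ m ih =>
        intro s hs
        have h3 : (s₂ : H) * s * (s₂ : H)⁻¹ ∈ S₁ := (s₂.2 s).1 hs
        have h4 := ih _ h3
        have h5 := hn₂s _ ⟨s, hs, rfl⟩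
        have e1 : n₂ ^ (m + 1) * ι₁ s * (n₂ ^ (m + 1))⁻¹ = n₂ ^ m * (n₂ * ι₁ s * n₂⁻¹) * (n₂ ^ m)⁻¹ := by
          rw [pow_succ]; group
        rw [e1, h5]
        have e2 : ι₁ (s₂ : H) * ι₁ s * (ι₁ (s₂ : H))⁻¹ = ι₁ ((s₂ : H) * s * (s₂ : H)⁻¹) := by
          rw [map_mul, map_mul, map_inv]
        rw [e2, h4]
        simp only [map_mul, map_inv, pow_succ]
        group
    have h6 := hpow (T.relIndex N) s₁ hs₁
    rw [D.pow_centralizes hn₂ (hT' s₁ hs₁)] at h6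
    -- `s₂` is a power of `s₂ ^ |N : T|`
    have hcop : Nat.Coprime (T.relIndex N) (orderOf (s₂ : H)) := by
      obtain ⟨k, hk⟩ := (IsPGroup.iff_orderOf.1 hS₂p) ⟨s₂, hs₂⟩
      have h7 : orderOf (s₂ : H) = ℓ₂ ^ k := by
        rw [← hk, Subgroup.orderOf_mk, Subgroup.orderOf_coe]
      rw [h7]
      apply Nat.Coprime.pow_right
      apply Nat.Coprime.symm
      rw [Nat.Prime.coprime_iff_not_dvd hl₂.out]
      exact fun hd => hT₂ (hd.trans hrel)
    obtain ⟨m, hm⟩ := exists_pow_eq_self_of_coprime hcop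
    -- centraliser of `ι₁ s₁` is a subgroup
    have h8 : ι₁ ((s₂ : H) ^ (T.relIndex N)) ∈ Subgroup.centralizer {ι₁ s₁} := by
      rw [Subgroup.mem_centralizer_singleton_iff]
      have := h6
      have h9 : ι₁ s₁ * ι₁ ((s₂ : H) ^ (T.relIndex N)) = ι₁ ((s₂ : H) ^ (T.relIndex N)) * ι₁ s₁ := by
        nth_rewrite 1 [this]
        group
      exact h9.symm
    have h10 : ι₁ (s₂ : H) ∈ Subgroup.centralizer {ι₁ s₁} := by
      have h11 := Subgroup.pow_mem _ h8 m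
      rw [← map_pow, hm] at h11
      exact h11
    rw [Subgroup.mem_centralizer_singleton_iff] at h10
    rw [h10, mul_inv_cancel_right]
  -- conjugate `S₂` into `T` in the centraliser of `S₁`
  let C : Subgroup X := Subgroup.centralizer (S₁.map ι₁ : Set X)
  have hTC : T ≤ C := by
    intro t ht
    rw [Subgroup.mem_centralizer_iff]
    rintro _ ⟨s, hs, rfl⟩
    exact D.comm _ (hT' s hs) _ ht
  have hCidx : ¬ ℓ₂ ∣ (T.subgroupOf C).index := by
    intro hd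
    exact hT₂ (hd.trans (Subgroup.relIndex_dvd_index_of_le hTC))
  have hS₂C : ∀ s ∈ S₂, ι₁ (s : H) ∈ C := by
    intro s hs
    rw [Subgroup.mem_centralizer_iff]
    rintro _ ⟨t, ht, rfl⟩
    have := hcent s hs t ht
    nth_rewrite 1 [← this]
    group
  let S₂C : Subgroup C := ((S₂.map N₁.subtype).map ι₁).subgroupOf C
  have hS₂Cp : IsPGroup ℓ₂ S₂C := by
    have h12 : IsPGroup ℓ₂ ((S₂.map N₁.subtype).map ι₁) := (hS₂p.map _).map _
    exact h12.comap_subtype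
  obtain ⟨c, hc⟩ := exists_conj_le (T.subgroupOf C) hCidx S₂C hS₂Cp
  let ι₂ : H →* X := (MulAut.conj (c : X)).toMonoidHom.comp ι₁
  have hinj : Function.Injective ι₂ := (MulAut.conj (c : X)).injective.comp ((MulAut.conj g).injective.comp hι)
  have hι₂ : ∀ s, ι₂ s = (c : X) * ι₁ s * (c : X)⁻¹ := fun s => rfl
  have hι₂S₁ : ∀ s ∈ S₁, ι₂ s = ι₁ s := by
    intro s hs
    rw [hι₂]
    have := Subgroup.mem_centralizer_iff.1 c.2 (ι₁ s) ⟨s, hs, rfl⟩
    rw [← this, mul_inv_cancel_right]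
  have hT₁' : ∀ s ∈ S₁, ι₂ s ∈ T := fun s hs => hι₂S₁ s hs ▸ hT' s hs
  have hT₂' : ∀ s ∈ S₂, ι₂ (s : H) ∈ T := by
    intro s hs
    exact hc ⟨ι₁ s, hS₂C s hs⟩ ⟨s, ⟨s, hs, rfl⟩, rfl⟩
  obtain ⟨n, hn, hns⟩ := D.fus (ι₂ h) (S₁.map ι₂ ⊔ (S₂.map N₁.subtype).map ι₂) (by
      rw [sup_le_iff]
      constructor
      · rintro _ ⟨s, hs, rfl⟩; exact hT₁' s hs
      · rintro _ ⟨_, ⟨s, hs, rfl⟩, rfl⟩; exact hT₂' s hs) (by
      have h13 : S₁.map ι₂ ⊔ (S₂.map N₁.subtype).map ι₂ ≤ T.comap (MulAut.conj (ι₂ h)).toMonoidHom := by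
        rw [sup_le_iff]
        constructor
        · rintro _ ⟨s, hs, rfl⟩
          show ι₂ h * ι₂ s * (ι₂ h)⁻¹ ∈ T
          rw [← map_inv, ← map_mul, ← map_mul]
          exact hT₁' _ ((h.2 s).1 hs)
        · rintro _ ⟨_, ⟨s, hs, rfl⟩, rfl⟩
          show ι₂ h * ι₂ (s : H) * (ι₂ h)⁻¹ ∈ T
          rw [← map_inv, ← map_mul, ← map_mul]
          exact hT₂' (h * s * h⁻¹) ((hhS s).1 hs)
      intro s hs
      exact h13 hs)
  refine ⟨n, hn, ?_, ?_⟩
  · refine acts_of ι₂ hinj φ hx₁ hy₁ S₁ hS₁m hT₁' h hhy (fun s hs => (h.2 s).1 hs) ?_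
    intro s hs
    rw [hns _ (Subgroup.mem_sup_left ⟨s, hs, rfl⟩), map_mul, map_mul, map_inv]
  · refine acts_of (ι₂.comp N₁.subtype) (hinj.comp N₁.subtype_injective) φ₁ hx₂' hy₂' S₂ hS₂m ?_ h hh
      (fun s hs => (hhS s).1 hs) ?_
    · intro s hs; exact hT₂' s hs
    · intro s hs
      show n * ι₂ (s : H) * n⁻¹ = ι₂ ((h : H) * s * (h : H)⁻¹)
      rw [hns _ (Subgroup.mem_sup_right ⟨s, ⟨s, hs, rfl⟩, rfl⟩), map_mul, map_mul, map_inv]

end

end Cfsg.Agent.H190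
end

-- part: H190/Chev
section
/-!
# The Chevalley groups: torus data, embeddings, the action of `N` on the torus
-/

set_option autoImplicit false

namespace Cfsg.Agent.H190

open Cfsg.Lie Cfsg.Agent.ChevalleyStructure Cfsg.Agent.ChevalleyStructure.Elts
  Cfsg.Agent.ChevalleyStructure.NPerm Cfsg.Agent.ChevStructure.FieldMap
open scoped Pointwise

universe u v

section Emb

variable {F : Type u} {K : Type v} [Field F] [Field K]

/-- the map of general linear groups given by a ring homomorphism -/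
noncomputable def glMap (D : ChevalleyDatum) (f : F →+* K) : GL D.Idx F →* GL D.Idx K :=
  Units.map (RingHom.mapMatrix f).toMonoidHom

theorem glMap_coe (D : ChevalleyDatum) (f : F →+* K) (g : GL D.Idx F) :
    ((glMap D f g : GL D.Idx K) : Matrix D.Idx D.Idx K) = (g : Matrix D.Idx D.Idx F).map f := rfl

theorem glMap_injective (D : ChevalleyDatum) (f : F →+* K) : Function.Injective (glMap D f) := by
  intro g h e
  apply Units.ext
  have h1 : (g : Matrix D.Idx D.Idx F).map f = (h : Matrix D.Idx D.Idx F).map f :=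
    congrArg (fun x : GL D.Idx K => (x : Matrix D.Idx D.Idx K)) e
  ext i j
  exact f.injective (congrFun (congrFun h1 i) j)

theorem glMap_mem (D : ChevalleyDatum) (f : F →+* K) {g : GL D.Idx F} (hg : g ∈ D.group F) :
    glMap D f g ∈ D.group K := by
  have h : D.group F ≤ (D.group K).comap (glMap D f) := by
    unfold ChevalleyDatum.group
    rw [Subgroup.closure_le]
    rintro g ⟨r, t, h⟩
    refine Subgroup.subset_closure ⟨r, f t, ?_⟩
    rw [glMap_coe, h]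
    exact xMat_map D f r t
  exact h hg

/-- the embedding of Chevalley groups given by a field embedding -/
noncomputable def groupMap (D : ChevalleyDatum) (f : F →+* K) : ↥(D.group F) →* ↥(D.group K) :=
  ((glMap D f).comp (D.group F).subtype).codRestrict (D.group K) (fun g => glMap_mem D f g.2)

theorem groupMap_injective (D : ChevalleyDatum) (f : F →+* K) : Function.Injective (groupMap D f) := by
  intro g h e
  exact Subtype.ext (glMap_injective D f (congrArg Subtype.val e))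

end Emb

variable {F : Type u} [Field F] {D : ChevalleyDatum}

/-- **Fusion in the torus is controlled by `N`**, for all elements of the torus at once. -/
theorem fus_all (hD : InList D) {g : GL D.Idx F} (hg : g ∈ D.group F) :
    ∃ n ∈ D.monomialSubgroup F, ∀ h₁ ∈ D.diagonalSubgroup F, g * h₁ * g⁻¹ ∈ D.diagonalSubgroup F →
      n * h₁ * n⁻¹ = g * h₁ * g⁻¹ := by
  obtain ⟨hex, huniq⟩ := Cfsg.Agent.S1100.result (F := F) D hD
  obtain ⟨b, hb, n, hn, u, hu, rfl⟩ := hex g hg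
  obtain ⟨hHU, hUH⟩ := Cfsg.Agent.S1036.result (F := F) D hD
  have hHN := Cfsg.Agent.S1038.result (F := F) D hD
  have hHleN : D.diagonalSubgroup F ≤ D.monomialSubgroup F := le_sup_left
  have hHleB : D.diagonalSubgroup F ≤ D.borelSubgroup F := le_sup_right
  -- write `b = v h`
  have hbmem : b ∈ D.posUnipotent F ⊔ D.diagonalSubgroup F := hb
  have hsup : ((D.posUnipotent F ⊔ D.diagonalSubgroup F : Subgroup (GL D.Idx F)) : Set (GL D.Idx F))
      = (D.posUnipotent F : Set (GL D.Idx F)) * (D.diagonalSubgroup F : Set (GL D.Idx F)) :=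
    Subgroup.coe_mul_of_right_le_normalizer_left _ _ hHU
  have hbmem' : b ∈ (D.posUnipotent F : Set (GL D.Idx F)) * (D.diagonalSubgroup F : Set (GL D.Idx F)) := by
    rw [← hsup]; exact hbmem
  obtain ⟨v, hv, h, hh, rfl⟩ := Set.mem_mul.mp hbmem'
  refine ⟨h * n, mul_mem (hHleN hh) hn, ?_⟩
  intro h₁ h1 h2
  set h₂ := v * h * n * u * h₁ * (v * h * n * u)⁻¹ with hc
  -- `n h₁ n⁻¹ ∈ H`
  have h3 : n * h₁ * n⁻¹ ∈ D.diagonalSubgroup F := by
    have := hHN.conj_mem ⟨h₁, hHleN h1⟩ (by simpa [Subgroup.mem_subgroupOf] using h1) ⟨n, hn⟩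
    simpa [Subgroup.mem_subgroupOf] using this
  -- `h₁⁻¹ u h₁` is in the same closure
  have hu' : h₁⁻¹ * u * h₁ ∈ Subgroup.closure {x : GL D.Idx F | ∃ (r : ℕ) (t : F), D.IsPosRoot r ∧
            (D.rootSubgroup F r).map (MulAut.conj n).toMonoidHom ≤ D.negUnipotent F ∧ (x : Matrix D.Idx D.Idx F) = D.x F r t} := by
    have := Cfsg.Agent.S1046.torus_conj_closure D hD
      (fun r => D.IsPosRoot r ∧ (D.rootSubgroup F r).map (MulAut.conj n).toMonoidHom ≤ D.negUnipotent F)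
      (fun r hr => hr.1.1) h₁⁻¹ (inv_mem h1) u (by simpa only [and_assoc] using hu)
    rw [inv_inv] at this
    simpa only [and_assoc] using this
  have hb' : v * h * (n * h₁ * n⁻¹) ∈ D.borelSubgroup F := mul_mem hb (hHleB h3)
  have hb'' : h₂ * (v * h) ∈ D.borelSubgroup F := mul_mem (hHleB h2) hb
  have heq : v * h * (n * h₁ * n⁻¹) * n * (h₁⁻¹ * u * h₁) = (h₂ * (v * h)) * n * u := by
    rw [hc]; group
  obtain ⟨-, hcons⟩ := huniq _ _ n n _ _ hb' hb'' hn hn hu' hu heq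
  obtain ⟨hbb, -⟩ := hcons rfl
  have hv2 : h₂ * v * h₂⁻¹ ∈ D.posUnipotent F := by
    have := hHU h2
    exact (Subgroup.mem_normalizer_iff.mp this v).mp hv
  have e1 : h * (n * h₁ * n⁻¹) * h⁻¹ * h₂⁻¹ = v⁻¹ * (h₂ * v * h₂⁻¹) := by
    have : (n * h₁ * n⁻¹) = (v * h)⁻¹ * (h₂ * (v * h)) := by rw [← hbb]; group
    rw [this]; group
  have hU : h * (n * h₁ * n⁻¹) * h⁻¹ * h₂⁻¹ ∈ D.posUnipotent F := by
    rw [e1]; exact mul_mem (inv_mem hv) hv2
  have hH : h * (n * h₁ * n⁻¹) * h⁻¹ * h₂⁻¹ ∈ D.diagonalSubgroup F :=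
    mul_mem (mul_mem (mul_mem hh h3) (inv_mem hh)) (inv_mem h2)
  have hone : h * (n * h₁ * n⁻¹) * h⁻¹ * h₂⁻¹ = 1 := by
    have : h * (n * h₁ * n⁻¹) * h⁻¹ * h₂⁻¹ ∈ D.posUnipotent F ⊓ D.diagonalSubgroup F := ⟨hU, hH⟩
    rw [hUH] at this
    exact Subgroup.mem_bot.mp this
  have : h * (n * h₁ * n⁻¹) * h⁻¹ = h₂ := mul_inv_eq_one.mp hone
  rw [← this]; group

/-- the torus `H` inside `D.group F` -/
abbrev TG (D : ChevalleyDatum) (F : Type u) [Field F] : Subgroup ↥(D.group F) :=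
  (D.diagonalSubgroup F).subgroupOf (D.group F)

/-- the monomial subgroup `N` inside `D.group F` -/
abbrev NG (D : ChevalleyDatum) (F : Type u) [Field F] : Subgroup ↥(D.group F) :=
  (D.monomialSubgroup F).subgroupOf (D.group F)

theorem torusData (hD : InList D) (F : Type u) [Field F] : TorusData (TG D F) (NG D F) where
  comm := by
    intro a ha b hb
    exact Subtype.ext (HDiag.mul_comm_of_mem D hD ha hb)
  le := by
    intro a ha
    exact (le_sup_left : D.diagonalSubgroup F ≤ D.monomialSubgroup F) ha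
  normal := by
    intro n hn t ht
    have hHN := Cfsg.Agent.S1038.result (F := F) D hD
    have ht' : (t : GL D.Idx F) ∈ D.diagonalSubgroup F := ht
    have := hHN.conj_mem ⟨t, (le_sup_left : D.diagonalSubgroup F ≤ D.monomialSubgroup F) ht'⟩
      (by simpa [Subgroup.mem_subgroupOf] using ht') ⟨n, hn⟩
    simpa [Subgroup.mem_subgroupOf] using this
  fus := by
    intro g S hST hgS
    obtain ⟨n, hn, h⟩ := fus_all hD g.2
    have hnG : n ∈ D.group F := monomial_le_group hD F hn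
    refine ⟨⟨n, hnG⟩, hn, fun s hs => ?_⟩
    apply Subtype.ext
    exact h s (hST hs) (hgS s hs)

/-! ### the action of `N` on `T` -/

/-- the diagonal entry at the root vector `r` -/
def ent (t : GL D.Idx F) (r : Fin D.nroots) : F := (t : Matrix D.Idx D.Idx F) (Sum.inr r) (Sum.inr r)

/-- torus elements -/
theorem torus_form (hD : InList D) {t : GL D.Idx F} (ht : t ∈ D.diagonalSubgroup F) :
    ∃ c : ℕ → F, (∀ i < D.rank, c i ≠ 0) ∧
      (t : Matrix D.Idx D.Idx F) =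
        HDiag.dmat D F (fun s => ∏ i ∈ Finset.range D.rank, c i ^ (D.cartan i s)) ∧
      ∀ s < D.nroots, ∀ u : F, t * xG hD s u * t⁻¹ =
        xG hD s ((∏ i ∈ Finset.range D.rank, c i ^ (D.cartan i s)) * u) := by
  obtain ⟨c, hc, hw⟩ := Cfsg.Agent.S1034.result D hD t ht
  refine ⟨c, hc, ?_⟩
  have key : ∀ n ≤ D.rank, (D.wordMat F ((List.range n).flatMap fun i => D.hWord (D.simple i) (c i)) =
      HDiag.dmat D F (fun s => ∏ i ∈ Finset.range n, c i ^ (D.cartan i s))) ∧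
      ∀ s < D.nroots, ∀ u : F, D.wordMat F ((List.range n).flatMap fun i => D.hWord (D.simple i) (c i)) *
        D.x F s u = D.x F s ((∏ i ∈ Finset.range n, c i ^ (D.cartan i s)) * u) *
          D.wordMat F ((List.range n).flatMap fun i => D.hWord (D.simple i) (c i)) := by
    intro n
    induction n with
    | zero =>
      intro _
      constructor
      · simp only [Finset.range_zero, Finset.prod_empty]
        rw [HDiag.dmat_one]
        rfl
      · intro s _ u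
        simp [ChevalleyDatum.wordMat]
    | succ n ih =>
      intro hn
      obtain ⟨h1, h2⟩ := ih (by omega)
      have e : D.wordMat F ((List.range (n + 1)).flatMap fun i => D.hWord (D.simple i) (c i)) =
          D.wordMat F ((List.range n).flatMap fun i => D.hWord (D.simple i) (c i)) * D.hMat F (D.simple n) (c n) := by
        rw [List.range_succ, List.flatMap_append, HDiag.wordMat_append, List.flatMap_singleton]
        rfl
      constructor
      · rw [e, h1, Cfsg.Agent.S1033.result D hD n (by omega) (c n) (hc n (by omega))]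
        rw [← HDiag.dmat_def, HDiag.dmat_mul]
        congr 1
        funext s
        rw [Finset.prod_range_succ]
      · intro s hs u
        rw [e, mul_assoc, Cfsg.Agent.S1032.result D hD n s (by omega) hs (c n) (hc n (by omega)) u, ← mul_assoc,
          h2 s hs, mul_assoc, Finset.prod_range_succ, mul_assoc]
  obtain ⟨h1, h2⟩ := key D.rank le_rfl
  refine ⟨hw.trans h1, fun s hs u => ?_⟩
  rw [mul_inv_eq_iff_eq_mul]
  apply Units.ext
  rw [Units.val_mul, Units.val_mul, coe_xG, coe_xG, hw]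
  exact h2 s hs u

theorem ent_of_dmat {t : GL D.Idx F} {χ : Fin D.nroots → F} (h : (t : Matrix D.Idx D.Idx F) = HDiag.dmat D F χ)
    (r : Fin D.nroots) : ent t r = χ r := by
  unfold ent
  rw [h, HDiag.dmat_def, Matrix.diagonal_apply_eq]
  rfl

theorem conj_xG (hD : InList D) {t : GL D.Idx F} (ht : t ∈ D.diagonalSubgroup F) (r : Fin D.nroots) (u : F) :
    t * xG hD r u * t⁻¹ = xG hD r (ent t r * u) := by
  obtain ⟨c, hc, h1, h2⟩ := torus_form hD ht
  rw [h2 r r.2 u, ent_of_dmat h1]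

theorem torus_ext (hD : InList D) {t t' : GL D.Idx F} (ht : t ∈ D.diagonalSubgroup F)
    (ht' : t' ∈ D.diagonalSubgroup F) (h : ∀ r, ent t r = ent t' r) : t = t' := by
  obtain ⟨χ, -, h1⟩ := HDiag.exists_dmat D hD t ht
  obtain ⟨χ', -, h2⟩ := HDiag.exists_dmat D hD t' ht'
  apply Units.ext
  rw [h1, h2]
  congr 1
  funext r
  rw [← ent_of_dmat h1, ← ent_of_dmat h2, h r]

theorem ent_mul (hD : InList D) {t t' : GL D.Idx F} (ht : t ∈ D.diagonalSubgroup F)
    (ht' : t' ∈ D.diagonalSubgroup F) (r : Fin D.nroots) : ent (t * t') r = ent t r * ent t' r := by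
  obtain ⟨χ, -, h1⟩ := HDiag.exists_dmat D hD t ht
  obtain ⟨χ', -, h2⟩ := HDiag.exists_dmat D hD t' ht'
  have h3 : ((t * t' : GL D.Idx F) : Matrix D.Idx D.Idx F) = HDiag.dmat D F (fun s => χ s * χ' s) := by
    rw [Units.val_mul, h1, h2, HDiag.dmat_mul]
  rw [ent_of_dmat h1, ent_of_dmat h2, ent_of_dmat h3]

theorem ent_ne_zero (hD : InList D) {t : GL D.Idx F} (ht : t ∈ D.diagonalSubgroup F) (r : Fin D.nroots) :
    ent t r ≠ 0 := by
  obtain ⟨χ, h0, h1⟩ := HDiag.exists_dmat D hD t ht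
  rw [ent_of_dmat h1]
  exact h0 r

/-- `n x_r(u) n⁻¹ = x_s(c u)` -/
theorem conj_lin (hD : InList D) {n : GL D.Idx F} (hn : n ∈ D.monomialSubgroup F) :
    ∀ r < D.nroots, ∃ s < D.nroots, ∃ c : F, c ≠ 0 ∧ ∀ u : F, n * xG hD r u * n⁻¹ = xG hD s (c * u) := by
  rw [monomial_eq hD F] at hn
  let P : Subgroup (GL D.Idx F) :=
    { carrier := {n | (∀ r < D.nroots, ∃ s < D.nroots, ∃ c : F, c ≠ 0 ∧ ∀ u : F, n * xG hD r u * n⁻¹ = xG hD s (c * u)) ∧
        (∀ r < D.nroots, ∃ s < D.nroots, ∃ c : F, c ≠ 0 ∧ ∀ u : F, n⁻¹ * xG hD r u * n = xG hD s (c * u))}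
      one_mem' := ⟨fun r hr => ⟨r, hr, 1, one_ne_zero, fun u => by simp⟩,
        fun r hr => ⟨r, hr, 1, one_ne_zero, fun u => by simp⟩⟩
      mul_mem' := by
        rintro a b ⟨ha, ha'⟩ ⟨hb, hb'⟩
        constructor
        · intro r hr
          obtain ⟨s, hs, c, hc, h1⟩ := hb r hr
          obtain ⟨s', hs', c', hc', h2⟩ := ha s hs
          refine ⟨s', hs', c' * c, mul_ne_zero hc' hc, fun u => ?_⟩
          have e : a * b * xG hD r u * (a * b)⁻¹ = a * (b * xG hD r u * b⁻¹) * a⁻¹ := by group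
          rw [e, h1, h2, mul_assoc]
        · intro r hr
          obtain ⟨s, hs, c, hc, h1⟩ := ha' r hr
          obtain ⟨s', hs', c', hc', h2⟩ := hb' s hs
          refine ⟨s', hs', c' * c, mul_ne_zero hc' hc, fun u => ?_⟩
          have e : (a * b)⁻¹ * xG hD r u * (a * b) = b⁻¹ * (a⁻¹ * xG hD r u * a) * b := by group
          rw [e, h1, h2, mul_assoc]
      inv_mem' := by
        rintro a ⟨ha, ha'⟩
        exact ⟨by simpa using ha', by simpa using ha⟩ }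
  have hle : Subgroup.closure {g : GL D.Idx F | ∃ i < D.rank, g = nG hD (D.simple i) 1} ⊔ D.diagonalSubgroup F ≤ P := by
    rw [sup_le_iff, Subgroup.closure_le]
    constructor
    · rintro _ ⟨i, hi, rfl⟩
      have key : ∀ s < D.nroots, ∃ c : F, c ≠ 0 ∧ ∀ t : F, nG hD (D.simple i) (1 : F) * xG hD s t * (nG hD (D.simple i) 1)⁻¹ =
          xG hD (D.reflectRoot i s) (c * t) := by
        intro s hs
        obtain ⟨η, hη, h⟩ := Cfsg.Agent.S1031.result (F := F) D hD i s hi hs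
        refine ⟨(η : F), ?_, fun t => ?_⟩
        · rcases hη with rfl | rfl <;> simp
        · rw [mul_inv_eq_iff_eq_mul]
          apply Units.ext
          rw [Units.val_mul, Units.val_mul, coe_nG, coe_xG, coe_xG]
          exact h t
      constructor
      · intro s hs
        obtain ⟨c, hc, h⟩ := key s hs
        exact ⟨_, reflectRoot_lt hD hi hs, c, hc, h⟩
      · intro s hs
        -- the inverse
        have h1 := conjRoot_nG (F := F) hD hi (reflectRoot_lt hD hi hs)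
        obtain ⟨-, hsurj⟩ := exists_conjRoot (F := F) hD (nG_simple_mem hD F hi)
        obtain ⟨r, hr, hcr⟩ := hsurj s hs
        have h2 := conjRoot_nG (F := F) hD hi hr
        have h3 : D.reflectRoot i r = s := ConjRoot.unique hD h2 hcr (reflectRoot_lt hD hi hr) hs
        obtain ⟨c, hc, h⟩ := key r hr
        refine ⟨r, hr, c⁻¹, inv_ne_zero hc, fun u => ?_⟩
        have h4 := h (c⁻¹ * u)
        rw [← mul_assoc, mul_inv_cancel₀ hc, one_mul, h3] at h4
        rw [← h4]; group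
    · intro t ht
      constructor
      · intro r hr
        exact ⟨r, hr, ent t ⟨r, hr⟩, ent_ne_zero hD ht _, fun u => conj_xG hD ht ⟨r, hr⟩ u⟩
      · intro r hr
        have ht' := (D.diagonalSubgroup F).inv_mem ht
        refine ⟨r, hr, ent t⁻¹ ⟨r, hr⟩, ent_ne_zero hD ht' _, fun u => ?_⟩
        have := conj_xG hD ht' ⟨r, hr⟩ u
        rwa [inv_inv] at this
  exact (hle hn).1

/-- the entry of `n t n⁻¹` at `w r` is the entry of `t` at `r` -/
theorem ent_conj (hD : InList D) (n : ↥(D.monomialSubgroup F)) {t : GL D.Idx F} (ht : t ∈ D.diagonalSubgroup F)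
    (r : Fin D.nroots) : ent ((n : GL D.Idx F) * t * (n : GL D.Idx F)⁻¹) (permHom hD F n r) = ent t r := by
  obtain ⟨s, hs, c, hc, h⟩ := conj_lin hD n.2 r r.2
  have hw : permHom hD F n r = ⟨s, hs⟩ := by
    apply permHom_eq_of_conj
    refine conjRoot_of hD (fun t => ⟨_, h t⟩) (fun u => ⟨c⁻¹ * u, ?_⟩)
    rw [h, ← mul_assoc, mul_inv_cancel₀ hc, one_mul]
  have hHN := Cfsg.Agent.S1038.result (F := F) D hD
  have ht' : (n : GL D.Idx F) * t * (n : GL D.Idx F)⁻¹ ∈ D.diagonalSubgroup F := by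
    have := hHN.conj_mem ⟨t, (le_sup_left : D.diagonalSubgroup F ≤ D.monomialSubgroup F) ht⟩
      (by simpa [Subgroup.mem_subgroupOf] using ht) n
    simpa [Subgroup.mem_subgroupOf] using this
  rw [hw]
  have h1 := conj_xG hD ht' ⟨s, hs⟩ (c * 1)
  have h2 : ((n : GL D.Idx F) * t * (n : GL D.Idx F)⁻¹) * xG hD s (c * 1) * ((n : GL D.Idx F) * t * (n : GL D.Idx F)⁻¹)⁻¹
      = xG hD s (c * (ent t r * 1)) := by
    rw [← h, ← h, ← conj_xG hD ht r]
    group
  have h3 : xG hD s (ent ((n : GL D.Idx F) * t * (n : GL D.Idx F)⁻¹) ⟨s, hs⟩ * (c * 1)) =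
      xG hD s (c * (ent t r * 1)) := h1.symm.trans h2
  have h4 := xG_injective hD hs h3
  rw [mul_one, mul_one, mul_comm] at h4
  exact mul_left_cancel₀ hc h4

/-- a relation between Cartan integers gives a relation between entries. -/
theorem ent_rel (hD : InList D) {t : GL D.Idx F} (ht : t ∈ D.diagonalSubgroup F) {a b c d : Fin D.nroots}
    (h : ∀ i < D.rank, D.cartan i a + D.cartan i b = D.cartan i c + D.cartan i d) :
    ent t a * ent t b = ent t c * ent t d := by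
  obtain ⟨e, he, h1, -⟩ := torus_form hD ht
  rw [ent_of_dmat h1, ent_of_dmat h1, ent_of_dmat h1, ent_of_dmat h1, ← Finset.prod_mul_distrib,
    ← Finset.prod_mul_distrib]
  refine Finset.prod_congr rfl fun i hi => ?_
  have hi' := Finset.mem_range.1 hi
  rw [← zpow_add₀ (he i hi'), ← zpow_add₀ (he i hi'), h i hi']

theorem ent_neg (hD : InList D) {t : GL D.Idx F} (ht : t ∈ D.diagonalSubgroup F) {a b : Fin D.nroots}
    (h : ∀ i < D.rank, D.cartan i a = - D.cartan i b) : ent t a * ent t b = 1 := by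
  obtain ⟨e, he, h1, -⟩ := torus_form hD ht
  rw [ent_of_dmat h1, ent_of_dmat h1, ← Finset.prod_mul_distrib]
  refine Finset.prod_eq_one fun i hi => ?_
  have hi' := Finset.mem_range.1 hi
  rw [← zpow_add₀ (he i hi'), h i hi', neg_add_cancel, zpow_zero]

end Cfsg.Agent.H190
end
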